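import Cfsg.Agent.H389.R.Def
import Cfsg.Agent.H532.CopAct

/-!
# S3530: coprime visibility (helper748)
-/

set_option autoImplicit false

namespace Cfsg.Agent.H389.RSq

open Subgroup
open Cfsg.Agent.H389.JSq (Has)

universe u v

namespace Vis748

section

variable {Y : Type u} [Group Y]

/-- the conjugates of `H` -/
def Om (H : Subgroup Y) : Type u :=
  {X : Subgroup Y // ∃ g : Y, X = H.map (MulAut.conj g).toMonoidHom}

theorem map_map' (X : Subgroup Y) (g h : Y) :
    (X.map (MulAut.conj h).toMonoidHom).map (MulAut.conj g).toMonoidHom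
      = X.map (MulAut.conj (g * h)).toMonoidHom := by
  rw [Subgroup.map_map]
  congr 1
  ext x
  simp [mul_assoc]

theorem map_one' (X : Subgroup Y) : X.map (MulAut.conj (1 : Y)).toMonoidHom = X := by
  rw [map_one]
  exact Subgroup.map_id X

theorem mem_normalizer_of_map {X : Subgroup Y} {g : Y}
    (h : X.map (MulAut.conj g).toMonoidHom = X) : g ∈ normalizer (X : Set Y) := by
  rw [mem_normalizer_iff]
  intro x
  constructor
  · intro hx
    rw [← h]
    exact ⟨x, hx, rfl⟩
  · intro hx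
    rw [← h] at hx
    obtain ⟨w, hw, hwx⟩ := hx
    have : w = x := by
      have : g * w * g⁻¹ = g * x * g⁻¹ := hwx
      simpa using this
    rwa [← this]

theorem map_of_mem_normalizer {X : Subgroup Y} {g : Y}
    (h : g ∈ normalizer (X : Set Y)) : X.map (MulAut.conj g).toMonoidHom = X := by
  rw [mem_normalizer_iff] at h
  ext x
  constructor
  · rintro ⟨w, hw, rfl⟩
    exact (h w).1 hw
  · intro hx
    refine ⟨g⁻¹ * x * g, (h _).2 ?_, ?_⟩
    · convert hx using 1
      group
    · change g * (g⁻¹ * x * g) * g⁻¹ = x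
      group

/-- `H` itself -/
def base (H : Subgroup Y) : Om H := ⟨H, 1, (map_one' H).symm⟩

/-- the action on the conjugates -/
@[reducible] def omAct (H : Subgroup Y) : MulAction Y (Om H) where
  smul g X := ⟨X.1.map (MulAut.conj g).toMonoidHom, by
    obtain ⟨X, k, rfl⟩ := X
    exact ⟨g * k, map_map' _ _ _⟩⟩
  one_smul X := Subtype.ext (map_one' X.1)
  mul_smul g h X := Subtype.ext (map_map' X.1 g h).symm

end

end Vis748

open Vis748
open scoped Pointwise in

theorem vis {Y : Type u} [Group Y] [Finite Y] {K H : Subgroup Y} [K.Normal] (hHK : H ≤ K)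
    (hF : ∀ g : Y, ∃ k ∈ K, H.map (MulAut.conj g).toMonoidHom = H.map (MulAut.conj k).toMonoidHom)
    {y z : Y} {p r : ℕ} (hp : p.Prime) (hr : r.Prime) (hpr : p ≠ r) (hyz : Commute y z) (hy : orderOf y = p) (hz : orderOf z = r)
    (hpK : ¬ p ∣ Nat.card K) (hrH : ¬ r ∣ (K ⊓ normalizer (H : Set Y)).relIndex K) :
    ∃ k ∈ K, k * y * k⁻¹ ∈ normalizer (H : Set Y) ∧ k * z * k⁻¹ ∈ normalizer (H : Set Y) := by
  classical
  have := Fact.mk hp
  have := Fact.mk hr
  let actY : MulAction Y (Om H) := omAct H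
  let actK : MulAction K (Om H) := MulAction.compHom _ K.subtype
  let actA : MulAction (zpowers y) (Om H) := MulAction.compHom _ (zpowers y).subtype
  let dist : MulDistribMulAction (zpowers y) K :=
    MulDistribMulAction.compHom K ((MulAut.conjNormal : Y →* MulAut K).comp (zpowers y).subtype)
  have : Nonempty (Om H) := ⟨base H⟩
  have : Finite (Om H) := Subtype.finite
  have hdist : ∀ (a : zpowers y) (g : K), ((a • g : K) : Y) = (a : Y) * g * (a : Y)⁻¹ := fun a g => rfl
  have hcompat : ∀ (a : zpowers y) (g : K) (ω : Om H), a • (g • ω) = (a • g) • (a • ω) := by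
    intro a g ω
    change (a : Y) • ((g : Y) • ω) = ((a • g : K) : Y) • ((a : Y) • ω)
    rw [hdist, ← mul_smul, ← mul_smul]
    congr 1
    group
  have hcop : (Nat.card (zpowers y)).Coprime (Nat.card K) := by
    rw [Nat.card_zpowers, hy]
    exact (Nat.Prime.coprime_iff_not_dvd hp).2 hpK
  have hsolv : Group.IsSolvable (zpowers y) ∨ Group.IsSolvable K := Or.inl inferInstance
  have htrans : ∀ ω ω' : Om H, ∃ g : K, g • ω = ω' := by
    rintro ⟨_, g, rfl⟩ ⟨_, g', rfl⟩
    obtain ⟨k, hk, hk2⟩ := hF g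
    obtain ⟨k', hk', hk2'⟩ := hF g'
    refine ⟨⟨k', hk'⟩ * ⟨k, hk⟩⁻¹, Subtype.ext ?_⟩
    change (H.map (MulAut.conj g).toMonoidHom).map (MulAut.conj (k' * k⁻¹)).toMonoidHom = H.map (MulAut.conj g').toMonoidHom
    rw [hk2, hk2', map_map', inv_mul_cancel_right]
  obtain ⟨⟨ω₀, hω₀⟩, hT⟩ := H532.CopAct.glauberman (A := zpowers y) (G := K) (Ω := Om H) hcompat hcop hsolv htrans
  -- the fixed points of `y` in `K`
  let C : Subgroup K :=
    { carrier := {g | ∀ a : zpowers y, a • g = g}
      mul_mem' := fun {g h} hg hh a => by rw [smul_mul', hg a, hh a]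
      one_mem' := fun a => smul_one a
      inv_mem' := fun {g} hg a => by rw [smul_inv', hg a] }
  let F : Type u := {ω : Om H // ∀ a : zpowers y, a • ω = ω}
  have : Finite F := Subtype.finite
  let actC : MulAction C F :=
    { smul := fun g ω => ⟨(g : K) • ω.1, fun a => by rw [hcompat, g.2 a, ω.2 a]⟩
      one_smul := fun ω => Subtype.ext (one_smul K ω.1)
      mul_smul := fun g h ω => Subtype.ext (mul_smul (g : K) (h : K) ω.1) }
  have hcomm : ∀ a ∈ zpowers y, ∀ b ∈ zpowers z, a * b = b * a := by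
    rintro _ ⟨i, rfl⟩ _ ⟨j, rfl⟩
    exact (hyz.zpow_zpow i j).eq
  let actZ : MulAction (zpowers z) F :=
    { smul := fun b ω => ⟨(b : Y) • ω.1, fun a => by
        change (a : Y) • ((b : Y) • ω.1) = (b : Y) • ω.1
        rw [← mul_smul, hcomm a a.2 b b.2, mul_smul]
        congr 1
        exact ω.2 a⟩
      one_smul := fun ω => Subtype.ext (one_smul Y ω.1)
      mul_smul := fun g h ω => Subtype.ext (mul_smul (g : Y) (h : Y) ω.1) }
  let f₀ : F := ⟨ω₀, hω₀⟩
  -- the stabiliser of `ω₀`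
  let M : Subgroup K := MulAction.stabilizer K ω₀
  have hMindex : M.index = (K ⊓ normalizer (H : Set Y)).relIndex K := by
    have : MulAction.IsPretransitive K (Om H) := ⟨htrans⟩
    have h1 : M.index = Nat.card (Om H) := MulAction.index_stabilizer_of_transitive K ω₀
    have h2 : (MulAction.stabilizer K (base H)).index = Nat.card (Om H) :=
      MulAction.index_stabilizer_of_transitive K _
    rw [h1, ← h2, Subgroup.relIndex]
    congr 1
    ext g
    rw [MulAction.mem_stabilizer_iff, mem_subgroupOf, mem_inf]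
    constructor
    · intro h
      exact ⟨g.2, mem_normalizer_of_map (congrArg Subtype.val h)⟩
    · intro h
      exact Subtype.ext (map_of_mem_normalizer h.2)
  have hrM : ¬ r ∣ M.index := by rw [hMindex]; exact hrH
  have hMinv : ∀ a : zpowers y, ∀ x ∈ M, a • x ∈ M := by
    intro a x hx
    rw [MulAction.mem_stabilizer_iff] at hx ⊢
    have h1 := hcompat a x ω₀
    rw [hx, hω₀ a] at h1
    exact h1.symm
  obtain ⟨P', hP', hP'M⟩ := H532.CopAct.exists_inv_sylow_le hcop hsolv r M hMinv hrM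
  obtain ⟨T⟩ : Nonempty (Sylow r C) := inferInstance
  obtain ⟨P, hP, hTP⟩ := H532.CopAct.exists_inv_sylow_ge hcop hsolv r ((T : Subgroup C).map C.subtype)
    (T.isPGroup'.map _) (by
      rintro a _ ⟨t, ht, rfl⟩
      have : a • (C.subtype t) = C.subtype t := t.2 a
      rw [this]
      exact ⟨t, ht, rfl⟩)
  obtain ⟨g, hg, hgP⟩ := (H532.CopAct.inv_sylow (A := zpowers y) (G := K) hcop hsolv r).2 P P' hP hP'
  let gC : C := ⟨g, hg⟩
  have htransC : ∀ ω ω' : F, ∃ g : C, g • ω = ω' := by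
    rintro ⟨ω, hω⟩ ⟨ω', hω'⟩
    obtain ⟨k, hk, hkω⟩ := hT ω ω' hω hω'
    exact ⟨⟨k, hk⟩, Subtype.ext hkω⟩
  have hrF : ¬ r ∣ Nat.card F := by
    have : MulAction.IsPretransitive C F := ⟨htransC⟩
    rw [← MulAction.index_stabilizer_of_transitive C f₀]
    intro h
    have hle : ((gC • T : Sylow r C) : Subgroup C) ≤ MulAction.stabilizer C f₀ := by
      intro x hx
      have hx' : x ∈ MulAut.conj gC • (T : Subgroup C) := hx
      obtain ⟨t, ht, rfl⟩ := hx'
      rw [MulAction.mem_stabilizer_iff]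
      apply Subtype.ext
      change ((g * (t : K) * g⁻¹ : K)) • ω₀ = ω₀
      have h1 : (t : K) ∈ (P : Subgroup K) := hTP ⟨t, ht, rfl⟩
      have h2 : g * (t : K) * g⁻¹ ∈ (P' : Subgroup K) := by
        rw [← hgP]
        exact ⟨(t : K), h1, rfl⟩
      exact hP'M h2
    exact (gC • T).not_dvd_index (h.trans (Subgroup.index_dvd_of_le hle))
  have hZ : IsPGroup r (zpowers z) := IsPGroup.of_card (n := 1) (by rw [Nat.card_zpowers, hz, pow_one])
  obtain ⟨⟨ω₁, hω₁⟩, hω₁z⟩ := hZ.nonempty_fixed_point_of_prime_not_dvd_card F hrF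
  have hy1 : y • ω₁ = ω₁ := hω₁ ⟨y, mem_zpowers y⟩
  have hz1 : z • ω₁ = ω₁ := congrArg Subtype.val (hω₁z ⟨z, mem_zpowers z⟩)
  obtain ⟨⟨k, hk⟩, hk1⟩ := htrans (base H) ω₁
  have hk2 : k • base H = ω₁ := hk1
  refine ⟨k⁻¹, K.inv_mem hk, ?_, ?_⟩
  · apply mem_normalizer_of_map
    have h3 : (k⁻¹ * y * k⁻¹⁻¹) • base H = base H := by
      rw [inv_inv, mul_smul, hk2, mul_smul, hy1, ← hk2, inv_smul_smul]
    exact congrArg Subtype.val h3
  · apply mem_normalizer_of_map
    have h3 : (k⁻¹ * z * k⁻¹⁻¹) • base H = base H := by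
      rw [inv_inv, mul_smul, hk2, mul_smul, hz1, ← hk2, inv_smul_smul]
    exact congrArg Subtype.val h3

end Cfsg.Agent.H389.RSq
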